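import Cfsg.Agent.H355.PQ.Defs

/-!
# S4612, row of `PSL_n`, [D5b] : invariant subspaces of small dimension (helper219)
-/

set_option autoImplicit false

open Cfsg Module

namespace Cfsg.Agent.H219.PQL

open Cfsg.Agent.H355.PQ

universe u v

variable {F : Type u} [Field F] {K : Type u} [Field K] [Algebra F K] {V : Type v} [AddCommGroup V] [Module F V]
  {p e w : ℕ} {ζ : Kˣ}

theorem adjoin_eq_top (h : Dat F K p e ζ) : Algebra.adjoin F {(ζ : K)} = ⊤ := by
  have := h.finF
  have := h.finK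
  have hfd : FiniteDimensional F K := Module.Finite.of_finite
  set L : IntermediateField F K := IntermediateField.adjoin F {(ζ : K)} with hL
  have hζL : (ζ : K) ∈ L := IntermediateField.mem_adjoin_simple_self F (ζ : K)
  have h1 : L.toSubalgebra = Algebra.adjoin F {(ζ : K)} :=
    IntermediateField.adjoin_simple_toSubalgebra_of_isAlgebraic (Algebra.IsAlgebraic.isAlgebraic (ζ : K))
  -- the order of `ζ`
  have h2 : p ∣ Nat.card F ^ finrank F L - 1 := by
    have h3 : Nat.card L = Nat.card F ^ finrank F L := Module.natCard_eq_pow_finrank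
    have hz0 : (⟨(ζ : K), hζL⟩ : L) ≠ 0 := by
      intro h4
      exact ζ.ne_zero (congrArg Subtype.val h4)
    set z : Lˣ := Units.mk0 (⟨(ζ : K), hζL⟩ : L) hz0 with hz
    have h4 : Units.map (algebraMap L K : L →* K) z = ζ := Units.ext rfl
    have h5 : orderOf z = p := by
      rw [← h.ord, ← h4]
      exact (orderOf_injective _ (Units.map_injective (algebraMap L K).injective) z).symm
    rw [← h3, ← Nat.card_units, ← h5]
    exact orderOf_dvd_natCard z
  have h3 : e ∣ finrank F L := (h.min _).1 h2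
  have h4 : finrank F L * finrank L K = e := by rw [Module.finrank_mul_finrank, h.deg]
  have h5 : 0 < finrank F L := Module.finrank_pos
  have h6 : finrank L K = 1 := by
    obtain ⟨c, hc⟩ := h3
    have h7 : 0 < finrank L K := Module.finrank_pos
    have he : 0 < e := by rw [← h4]; exact Nat.mul_pos h5 h7
    rw [hc, mul_assoc] at h4
    have h8 : c * finrank L K = 1 := Nat.eq_of_mul_eq_mul_left he (by rw [mul_one]; exact h4)
    exact Nat.eq_one_of_mul_eq_one_left h8
  have h7 : L = ⊤ := IntermediateField.finrank_eq_one_iff_eq_top.1 h6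
  rw [← h1, h7]
  rfl

/-- a subspace of `K ^ w` invariant under a generator is a `K`-subspace -/
theorem smul_mem {W : Submodule F (Sp K w V)} (h : Algebra.adjoin F {(ζ : K)} = ⊤)
    (hW : ∀ x : Fin w → K, ((x, 0) : Sp K w V) ∈ W → ((fun i => (ζ : K) * x i, 0) : Sp K w V) ∈ W)
    {x : Fin w → K} (hx : ((x, 0) : Sp K w V) ∈ W) (c : K) : ((fun i => c * x i, 0) : Sp K w V) ∈ W := by
  have hc : c ∈ Algebra.adjoin F {(ζ : K)} := by rw [h]; exact Algebra.mem_top
  induction hc using Algebra.adjoin_induction generalizing x with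
  | mem y hy =>
    rw [Set.mem_singleton_iff] at hy
    rw [hy]
    exact hW x hx
  | algebraMap r =>
    have h1 : ((fun i => algebraMap F K r * x i, 0) : Sp K w V) = r • ((x, 0) : Sp K w V) := by
      ext
      · simp [Algebra.smul_def]
      · simp
    rw [h1]
    exact W.smul_mem r hx
  | add a b _ _ ha hb =>
    have h1 : ((fun i => (a + b) * x i, 0) : Sp K w V) =
        ((fun i => a * x i, 0) : Sp K w V) + ((fun i => b * x i, 0) : Sp K w V) := by
      ext
      · simp [add_mul]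
      · simp
    rw [h1]
    exact W.add_mem (ha hx) (hb hx)
  | mul a b _ _ ha hb =>
    have h1 := ha (hb hx)
    have h2 : ((fun i => a * b * x i, 0) : Sp K w V) = ((fun i => a * (b * x i), 0) : Sp K w V) := by
      ext <;> simp [mul_assoc]
    rw [h2]
    exact h1

/-- the embedding of `K` on a line -/
def line (x : Fin w → K) (V : Type v) [AddCommGroup V] [Module F V] : K →ₗ[F] Sp K w V where
  toFun c := (fun i => c * x i, 0)
  map_add' a b := by
    ext
    · simp [add_mul]
    · simp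
  map_smul' r c := by
    ext
    · simp
    · simp

theorem line_injective {x : Fin w → K} (hx : x ≠ 0) : Function.Injective (line (F := F) x V) := by
  obtain ⟨i, hi⟩ := Function.ne_iff.1 hx
  intro a b hab
  have h1 := congrFun (congrArg Prod.fst hab) i
  exact mul_right_cancel₀ hi h1

theorem el_pow (c : Kˣ) (A : V ≃ₗ[F] V) (n : ℕ) :
    (el c A : Sp K w V ≃ₗ[F] Sp K w V) ^ n = el (c ^ n) (A ^ n) := by
  induction n with
  | zero =>
    rw [pow_zero, pow_zero, pow_zero]
    apply LinearEquiv.ext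
    intro v
    rw [el_apply]
    simp
  | succ n ih =>
    rw [pow_succ, pow_succ, pow_succ, ih]
    apply LinearEquiv.ext
    intro v
    rw [LinearEquiv.mul_apply, el_apply, el_apply, el_apply]
    ext
    · simp [mul_assoc]
    · simp

theorem mem_of_map_eq {M : Type*} [AddCommGroup M] [Module F M] {g : M ≃ₗ[F] M} {W : Submodule F M}
    (h : W.map (g : M →ₗ[F] M) = W) (n : ℕ) {x : M} (hx : x ∈ W) : (g ^ n) x ∈ W := by
  induction n with
  | zero => exact hx
  | succ n ih =>
    rw [pow_succ', LinearEquiv.mul_apply]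
    rw [← h]
    exact ⟨_, ih, rfl⟩

theorem le_range (h : Dat F K p e ζ) (hpF : ¬ p ∣ Nat.card F) {r : ℕ} [CharP F r] [FiniteDimensional F V]
    (A : V ≃ₗ[F] V) (hA : ∃ m : ℕ, A ^ r ^ m = 1) {k : ℕ} (hk : k < e) {W : Submodule F (Sp K w V)}
    (hWk : finrank F W = k) (hW : W.map ((el ζ A : Sp K w V ≃ₗ[F] Sp K w V) : Sp K w V →ₗ[F] Sp K w V) = W) :
    W ≤ LinearMap.range (LinearMap.inr F (Fin w → K) V) := by
  have := h.finF
  have := h.finK
  have hfd : FiniteDimensional F K := Module.Finite.of_finite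
  obtain ⟨m, hm⟩ := hA
  have hr : r.Prime := CharP.char_is_prime F r
  have hpr : ¬ p ∣ r ^ m := by
    intro h1
    have h2 := h.prime.dvd_of_dvd_pow h1
    have h3 : p = r := (Nat.prime_dvd_prime_iff_eq h.prime hr).1 h2
    apply hpF
    rw [h3]
    have := Fintype.ofFinite F
    have := Fact.mk hr
    obtain ⟨f, -, hf⟩ := FiniteField.card F r
    rw [Nat.card_eq_fintype_card, hf]
    exact dvd_pow_self r f.pos.ne'
  set ζ' : Kˣ := ζ ^ r ^ m with hζ'
  have hord : orderOf ζ' = p := by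
    rw [hζ', orderOf_pow' _ (pow_ne_zero _ hr.ne_zero), h.ord,
      ((Nat.Prime.coprime_iff_not_dvd h.prime).2 hpr).gcd_eq_one, Nat.div_one]
  have h' : Dat F K p e ζ' := ⟨h.finF, h.finK, h.prime, hord, h.deg, h.min⟩
  have hg : ∀ v ∈ W, ((fun i => (ζ' : K) * v.1 i, v.2) : Sp K w V) ∈ W := by
    intro v hv
    have h1 := mem_of_map_eq hW (r ^ m) hv
    rw [el_pow, hm, el_apply] at h1
    exact h1
  have hadj := adjoin_eq_top h'
  have hzero : ∀ x : Fin w → K, ((x, 0) : Sp K w V) ∈ W → x = 0 := by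
    intro x hx
    by_contra hx0
    have h1 : LinearMap.range (line (F := F) x V) ≤ W := by
      rintro _ ⟨c, rfl⟩
      exact smul_mem hadj (fun y hy => hg _ hy) hx c
    have h2 := Submodule.finrank_mono h1
    rw [LinearMap.finrank_range_of_inj (line_injective hx0), h.deg, hWk] at h2
    omega
  have hne : (ζ' : K) - 1 ≠ 0 := by
    intro h1
    have h2 : ζ' = 1 := Units.ext (sub_eq_zero.1 h1)
    rw [h2, orderOf_one] at hord
    exact h.prime.one_lt.ne hord
  rintro ⟨x, y⟩ hv
  have h1 : ((fun i => ((ζ' : K) - 1) * x i, 0) : Sp K w V) ∈ W := by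
    have h2 := W.sub_mem (hg _ hv) hv
    have h3 : (((fun i => (ζ' : K) * x i, y) : Sp K w V) - (x, y)) = (fun i => ((ζ' : K) - 1) * x i, 0) := by
      ext
      · simp [sub_mul]
      · simp
    rw [← h3]
    exact h2
  have h2 := hzero _ h1
  have h3 : x = 0 := by
    funext i
    have h4 := congrFun h2 i
    exact (mul_eq_zero.1 h4).resolve_left hne
  exact ⟨y, by rw [h3]; rfl⟩

theorem map_inr (A : V ≃ₗ[F] V) (W : Submodule F V) :
    (W.map (LinearMap.inr F (Fin w → K) V)).map
      ((el ζ A : Sp K w V ≃ₗ[F] Sp K w V) : Sp K w V →ₗ[F] Sp K w V) =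
      (W.map (A : V →ₗ[F] V)).map (LinearMap.inr F (Fin w → K) V) := by
  rw [← Submodule.map_comp, ← Submodule.map_comp]
  congr 1
  apply LinearMap.ext
  intro v
  show (el ζ A : Sp K w V ≃ₗ[F] Sp K w V) (0, v) = (0, A v)
  rw [el_apply]
  ext
  · simp
  · simp

theorem inv_el (h : Dat F K p e ζ) (hpF : ¬ p ∣ Nat.card F) {r : ℕ} [CharP F r] [FiniteDimensional F V]
    (A : V ≃ₗ[F] V) (hA : ∃ m : ℕ, A ^ r ^ m = 1) {k : ℕ} (hk : k < e) :
    inv k ((el ζ A : Sp K w V ≃ₗ[F] Sp K w V) : Sp K w V →ₗ[F] Sp K w V) = inv k (A : V →ₗ[F] V) := by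
  have hinj : Function.Injective (LinearMap.inr F (Fin w → K) V) := LinearMap.inr_injective
  have hmap : ∀ W : Submodule F (Sp K w V), finrank F W = k →
      W.map ((el ζ A : Sp K w V ≃ₗ[F] Sp K w V) : Sp K w V →ₗ[F] Sp K w V) = W →
      (W.comap (LinearMap.inr F (Fin w → K) V)).map (LinearMap.inr F (Fin w → K) V) = W := by
    intro W h1 h2
    rw [Submodule.map_comap_eq, inf_eq_right]
    exact le_range h hpF A hA hk h1 h2
  refine Nat.card_congr ⟨fun W => ⟨W.1.comap (LinearMap.inr F (Fin w → K) V), ?_, ?_⟩,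
    fun W => ⟨W.1.map (LinearMap.inr F (Fin w → K) V), ?_, ?_⟩, ?_, ?_⟩
  · have h1 := hmap W.1 W.2.1 W.2.2
    rw [(Submodule.equivMapOfInjective _ hinj (W.1.comap (LinearMap.inr F (Fin w → K) V))).finrank_eq, h1]
    exact W.2.1
  · have h1 := hmap W.1 W.2.1 W.2.2
    apply Submodule.map_injective_of_injective hinj
    rw [← map_inr (ζ := ζ), h1]
    exact W.2.2
  · rw [← (Submodule.equivMapOfInjective _ hinj W.1).finrank_eq]
    exact W.2.1
  · rw [map_inr, W.2.2]
  · intro W
    exact Subtype.ext (hmap W.1 W.2.1 W.2.2)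
  · intro W
    exact Subtype.ext (Submodule.comap_map_eq_of_injective hinj W.1)

theorem exists_inv_el (h : Dat F K p e ζ) (hw : 1 ≤ w) (A : V ≃ₗ[F] V) :
    ∃ W : Submodule F (Sp K w V), finrank F W = e ∧
      W.map ((el ζ A : Sp K w V ≃ₗ[F] Sp K w V) : Sp K w V →ₗ[F] Sp K w V) = W := by
  have hx : (Pi.single ⟨0, hw⟩ 1 : Fin w → K) ≠ 0 := by
    intro h1
    have h2 := congrFun h1 ⟨0, hw⟩
    rw [Pi.single_eq_same] at h2
    exact one_ne_zero h2
  refine ⟨LinearMap.range (line (F := F) (Pi.single ⟨0, hw⟩ 1 : Fin w → K) V), ?_, ?_⟩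
  · rw [LinearMap.finrank_range_of_inj (line_injective hx), h.deg]
  · have h1 : ∀ c : K, (el ζ A : Sp K w V ≃ₗ[F] Sp K w V) (line (F := F) (Pi.single ⟨0, hw⟩ 1 : Fin w → K) V c) =
        line (F := F) (Pi.single ⟨0, hw⟩ 1 : Fin w → K) V (ζ * c) := by
      intro c
      rw [el_apply]
      ext i
      · show (ζ : K) * (c * _) = ζ * c * _
        ring
      · show A 0 = 0
        exact map_zero A
    apply le_antisymm
    · rintro _ ⟨_, ⟨c, rfl⟩, rfl⟩
      exact ⟨_, (h1 c).symm⟩
    · rintro _ ⟨c, rfl⟩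
      refine ⟨_, ⟨((ζ⁻¹ : Kˣ) : K) * c, rfl⟩, ?_⟩
      refine (h1 _).trans ?_
      rw [← mul_assoc, Units.mul_inv, one_mul]

end Cfsg.Agent.H219.PQL
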